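import Cfsg.Agent.H897.PQ.Tab

/-!
# S4612: tori of `E₇(q)`: pairs of primes of the same order `e ≥ 3` (PQ-X2b, helper897)
-/

set_option autoImplicit false
set_option linter.unusedSectionVars false

namespace Cfsg.Agent.H897.PQ

open CoxeterSystem Cfsg Cfsg.Lie Cfsg.Lie.ChevalleyDatum
open Cfsg.Agent.ChevalleyStructure Cfsg.Agent.ChevalleyStructure.Elts Cfsg.Agent.ChevalleyStructure.CoxeterGeom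
  Cfsg.Agent.ChevalleyStructure.CoxeterGeomTypes
open Cfsg.Agent.Tits.Roots Cfsg.Agent.Tits.Core Cfsg.Agent.Nodes
open Cfsg.Agent.H129 Cfsg.Agent.H129.WData Cfsg.Agent.H493.PGTorus Cfsg.Agent.H493.PGTwist Cfsg.Agent.H378.CycTab
open Cfsg.Agent.H28.T5Tor Cfsg.Agent.H28.T5TorRows Cfsg.Agent.H317.PQ Cfsg.Agent.H172.SI

/-- the partial products -/
def K7_5 : List (Fin 7 × Mat 7) := [
    (0, ![![0, 0, 1, 0, 0, 0, 0], ![1, 1, 1, 1, 0, 0, 0], ![0, 0, 0, 1, 0, 0, 0], ![0, 0, 0, 0, 1, 0, 0], ![-1, 0, -1, -1, -1, 0, 0], ![1, 0, 1, 1, 1, 1, 0], ![0, 0, 0, 0, 0, 0, 1]]),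
    (2, ![![1, 0, 1, 0, 0, 0, 0], ![0, 1, 1, 1, 0, 0, 0], ![0, 0, 0, 1, 0, 0, 0], ![0, 0, 0, 0, 1, 0, 0], ![0, 0, -1, -1, -1, 0, 0], ![0, 0, 1, 1, 1, 1, 0], ![0, 0, 0, 0, 0, 0, 1]]),
    (3, ![![1, 0, 0, 0, 0, 0, 0], ![0, 1, 0, 1, 0, 0, 0], ![0, 0, 1, 1, 0, 0, 0], ![0, 0, 0, 0, 1, 0, 0], ![0, 0, 0, -1, -1, 0, 0], ![0, 0, 0, 1, 1, 1, 0], ![0, 0, 0, 0, 0, 0, 1]]),
    (4, ![![1, 0, 0, 0, 0, 0, 0], ![0, 1, 0, 0, 0, 0, 0], ![0, 0, 1, 0, 0, 0, 0], ![0, 0, 0, 1, 1, 0, 0], ![0, 0, 0, 0, -1, 0, 0], ![0, 0, 0, 0, 1, 1, 0], ![0, 0, 0, 0, 0, 0, 1]])]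

theorem chK7_5 : ChainOK A7 K7_5 := by decide +kernel

/-- the eigenfunctionals, order 5 -/
def V7_5 : Fin 1 → Fin (3 + 1) → Fin 7 → ℤ := ![![![-1, -1, 1, 1, -1, 0, 0], ![-1, -2, 0, 2, 0, -1, 0], ![-2, -1, 0, 1, 1, -1, 0], ![-1, 0, -1, 1, 0, 0, 0]]]

/-- the dual vectors, order 5 -/
def U7_5 : Fin 1 → Fin 7 → ℤ := ![![0, 1, 1, 1, 0, 0, 0]]

theorem ok7_5 : TabOK (hd K7_5) c5 V7_5 U7_5 := by decide +kernel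

/-- the partial products -/
def K7_7 : List (Fin 7 × Mat 7) := [
    (0, ![![0, 0, 1, 0, 0, 0, 0], ![1, 1, 1, 1, 0, 0, 0], ![0, 0, 0, 1, 0, 0, 0], ![0, 0, 0, 0, 1, 0, 0], ![0, 0, 0, 0, 0, 1, 0], ![0, 0, 0, 0, 0, 0, 1], ![-1, 0, -1, -1, -1, -1, -1]]),
    (2, ![![1, 0, 1, 0, 0, 0, 0], ![0, 1, 1, 1, 0, 0, 0], ![0, 0, 0, 1, 0, 0, 0], ![0, 0, 0, 0, 1, 0, 0], ![0, 0, 0, 0, 0, 1, 0], ![0, 0, 0, 0, 0, 0, 1], ![0, 0, -1, -1, -1, -1, -1]]),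
    (3, ![![1, 0, 0, 0, 0, 0, 0], ![0, 1, 0, 1, 0, 0, 0], ![0, 0, 1, 1, 0, 0, 0], ![0, 0, 0, 0, 1, 0, 0], ![0, 0, 0, 0, 0, 1, 0], ![0, 0, 0, 0, 0, 0, 1], ![0, 0, 0, -1, -1, -1, -1]]),
    (4, ![![1, 0, 0, 0, 0, 0, 0], ![0, 1, 0, 0, 0, 0, 0], ![0, 0, 1, 0, 0, 0, 0], ![0, 0, 0, 1, 1, 0, 0], ![0, 0, 0, 0, 0, 1, 0], ![0, 0, 0, 0, 0, 0, 1], ![0, 0, 0, 0, -1, -1, -1]]),
    (5, ![![1, 0, 0, 0, 0, 0, 0], ![0, 1, 0, 0, 0, 0, 0], ![0, 0, 1, 0, 0, 0, 0], ![0, 0, 0, 1, 0, 0, 0], ![0, 0, 0, 0, 1, 1, 0], ![0, 0, 0, 0, 0, 0, 1], ![0, 0, 0, 0, 0, -1, -1]]),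
    (6, ![![1, 0, 0, 0, 0, 0, 0], ![0, 1, 0, 0, 0, 0, 0], ![0, 0, 1, 0, 0, 0, 0], ![0, 0, 0, 1, 0, 0, 0], ![0, 0, 0, 0, 1, 0, 0], ![0, 0, 0, 0, 0, 1, 1], ![0, 0, 0, 0, 0, 0, -1]])]

theorem chK7_7 : ChainOK A7 K7_7 := by decide +kernel

/-- the eigenfunctionals, order 7 -/
def V7_7 : Fin 1 → Fin (5 + 1) → Fin 7 → ℤ := ![![![-1, -1, 1, 1, -1, 0, 0], ![-1, -2, 0, 2, 0, -1, 0], ![-1, -2, 0, 1, 1, 0, -1], ![-1, -2, 0, 1, 0, 1, 0], ![-2, -1, 0, 1, 0, 0, 1], ![-1, 0, -1, 1, 0, 0, 0]]]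

/-- the dual vectors, order 7 -/
def U7_7 : Fin 1 → Fin 7 → ℤ := ![![-1, -1, -1, -2, -2, -1, -1]]

theorem ok7_7 : TabOK (hd K7_7) c7 V7_7 U7_7 := by decide +kernel

/-- the partial products -/
def K7_8 : List (Fin 7 × Mat 7) := [
    (0, ![![0, 0, 1, 0, 0, 0, 0], ![-1, -1, -1, -1, 0, 0, 0], ![0, 0, 0, 1, 0, 0, 0], ![1, 1, 1, 1, 1, 0, 0], ![-1, 0, -1, -1, -1, 0, 0], ![1, 0, 1, 1, 1, 1, 0], ![0, 0, 0, 0, 0, 0, 1]]),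
    (2, ![![1, 0, 1, 0, 0, 0, 0], ![0, -1, -1, -1, 0, 0, 0], ![0, 0, 0, 1, 0, 0, 0], ![0, 1, 1, 1, 1, 0, 0], ![0, 0, -1, -1, -1, 0, 0], ![0, 0, 1, 1, 1, 1, 0], ![0, 0, 0, 0, 0, 0, 1]]),
    (3, ![![1, 0, 0, 0, 0, 0, 0], ![0, -1, 0, -1, 0, 0, 0], ![0, 0, 1, 1, 0, 0, 0], ![0, 1, 0, 1, 1, 0, 0], ![0, 0, 0, -1, -1, 0, 0], ![0, 0, 0, 1, 1, 1, 0], ![0, 0, 0, 0, 0, 0, 1]]),
    (1, ![![1, 0, 0, 0, 0, 0, 0], ![0, -1, 0, 0, 0, 0, 0], ![0, 0, 1, 0, 0, 0, 0], ![0, 1, 0, 1, 1, 0, 0], ![0, 0, 0, 0, -1, 0, 0], ![0, 0, 0, 0, 1, 1, 0], ![0, 0, 0, 0, 0, 0, 1]]),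
    (4, ![![1, 0, 0, 0, 0, 0, 0], ![0, 1, 0, 0, 0, 0, 0], ![0, 0, 1, 0, 0, 0, 0], ![0, 0, 0, 1, 1, 0, 0], ![0, 0, 0, 0, -1, 0, 0], ![0, 0, 0, 0, 1, 1, 0], ![0, 0, 0, 0, 0, 0, 1]])]

theorem chK7_8 : ChainOK A7 K7_8 := by decide +kernel

/-- the eigenfunctionals, order 8 -/
def V7_8 : Fin 1 → Fin (3 + 1) → Fin 7 → ℤ := ![![![-1, 0, 0, 1, 0, -1, 0], ![0, 1, -1, 0, 1, -1, 0], ![-1, 1, 0, -1, 1, 0, 0], ![0, 0, -1, 0, 0, 1, 0]]]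

/-- the dual vectors, order 8 -/
def U7_8 : Fin 1 → Fin 7 → ℤ := ![![-1, -1, -1, -1, -1, -1, 0]]

theorem ok7_8 : TabOK (hd K7_8) c8 V7_8 U7_8 := by decide +kernel

/-- the partial products -/
def K7_10 : List (Fin 7 × Mat 7) := [
    (1, ![![1, 0, 1, 0, 0, 0, 0], ![0, 0, 1, 1, 0, 0, 0], ![0, 1, 0, 1, 0, 0, 0], ![0, 0, 0, 0, 1, 0, 0], ![0, 0, 0, 0, 0, 1, 0], ![0, 0, 0, 0, 0, 0, 1], ![0, -1, -1, -1, -1, -1, -1]]),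
    (2, ![![1, 0, 1, 0, 0, 0, 0], ![0, 1, 1, 1, 0, 0, 0], ![0, 0, 0, 1, 0, 0, 0], ![0, 0, 0, 0, 1, 0, 0], ![0, 0, 0, 0, 0, 1, 0], ![0, 0, 0, 0, 0, 0, 1], ![0, 0, -1, -1, -1, -1, -1]]),
    (3, ![![1, 0, 0, 0, 0, 0, 0], ![0, 1, 0, 1, 0, 0, 0], ![0, 0, 1, 1, 0, 0, 0], ![0, 0, 0, 0, 1, 0, 0], ![0, 0, 0, 0, 0, 1, 0], ![0, 0, 0, 0, 0, 0, 1], ![0, 0, 0, -1, -1, -1, -1]]),
    (4, ![![1, 0, 0, 0, 0, 0, 0], ![0, 1, 0, 0, 0, 0, 0], ![0, 0, 1, 0, 0, 0, 0], ![0, 0, 0, 1, 1, 0, 0], ![0, 0, 0, 0, 0, 1, 0], ![0, 0, 0, 0, 0, 0, 1], ![0, 0, 0, 0, -1, -1, -1]]),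
    (5, ![![1, 0, 0, 0, 0, 0, 0], ![0, 1, 0, 0, 0, 0, 0], ![0, 0, 1, 0, 0, 0, 0], ![0, 0, 0, 1, 0, 0, 0], ![0, 0, 0, 0, 1, 1, 0], ![0, 0, 0, 0, 0, 0, 1], ![0, 0, 0, 0, 0, -1, -1]]),
    (6, ![![1, 0, 0, 0, 0, 0, 0], ![0, 1, 0, 0, 0, 0, 0], ![0, 0, 1, 0, 0, 0, 0], ![0, 0, 0, 1, 0, 0, 0], ![0, 0, 0, 0, 1, 0, 0], ![0, 0, 0, 0, 0, 1, 1], ![0, 0, 0, 0, 0, 0, -1]])]

theorem chK7_10 : ChainOK A7 K7_10 := by decide +kernel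

/-- the eigenfunctionals, order 10 -/
def V7_10 : Fin 1 → Fin (3 + 1) → Fin 7 → ℤ := ![![![0, 1, 1, -1, 0, 0, -1], ![-1, 0, 0, 1, -1, 0, 1], ![0, 0, 0, 0, 1, -1, -1], ![-1, 0, 0, 0, 0, 1, 0]]]

/-- the dual vectors, order 10 -/
def U7_10 : Fin 1 → Fin 7 → ℤ := ![![0, 1, 0, 0, 0, 0, 0]]

theorem ok7_10 : TabOK (hd K7_10) c10 V7_10 U7_10 := by decide +kernel

/-- the partial products -/
def K7_12 : List (Fin 7 × Mat 7) := [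
    (0, ![![0, 0, 1, 0, 0, 0, 0], ![1, 0, 1, 1, 0, 0, 0], ![0, 1, 0, 1, 0, 0, 0], ![0, 0, 0, 0, 1, 0, 0], ![0, 0, 0, 0, 0, 1, 0], ![-1, -1, -1, -1, -1, -1, 0], ![1, 1, 1, 1, 1, 1, 1]]),
    (1, ![![1, 0, 1, 0, 0, 0, 0], ![0, 0, 1, 1, 0, 0, 0], ![0, 1, 0, 1, 0, 0, 0], ![0, 0, 0, 0, 1, 0, 0], ![0, 0, 0, 0, 0, 1, 0], ![0, -1, -1, -1, -1, -1, 0], ![0, 1, 1, 1, 1, 1, 1]]),
    (2, ![![1, 0, 1, 0, 0, 0, 0], ![0, 1, 1, 1, 0, 0, 0], ![0, 0, 0, 1, 0, 0, 0], ![0, 0, 0, 0, 1, 0, 0], ![0, 0, 0, 0, 0, 1, 0], ![0, 0, -1, -1, -1, -1, 0], ![0, 0, 1, 1, 1, 1, 1]]),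
    (3, ![![1, 0, 0, 0, 0, 0, 0], ![0, 1, 0, 1, 0, 0, 0], ![0, 0, 1, 1, 0, 0, 0], ![0, 0, 0, 0, 1, 0, 0], ![0, 0, 0, 0, 0, 1, 0], ![0, 0, 0, -1, -1, -1, 0], ![0, 0, 0, 1, 1, 1, 1]]),
    (4, ![![1, 0, 0, 0, 0, 0, 0], ![0, 1, 0, 0, 0, 0, 0], ![0, 0, 1, 0, 0, 0, 0], ![0, 0, 0, 1, 1, 0, 0], ![0, 0, 0, 0, 0, 1, 0], ![0, 0, 0, 0, -1, -1, 0], ![0, 0, 0, 0, 1, 1, 1]]),
    (5, ![![1, 0, 0, 0, 0, 0, 0], ![0, 1, 0, 0, 0, 0, 0], ![0, 0, 1, 0, 0, 0, 0], ![0, 0, 0, 1, 0, 0, 0], ![0, 0, 0, 0, 1, 1, 0], ![0, 0, 0, 0, 0, -1, 0], ![0, 0, 0, 0, 0, 1, 1]])]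

theorem chK7_12 : ChainOK A7 K7_12 := by decide +kernel

/-- the eigenfunctionals, order 12 -/
def V7_12 : Fin 1 → Fin (3 + 1) → Fin 7 → ℤ := ![![![0, -1, 0, 1, 0, 0, -1], ![-1, 0, 0, 0, 1, 0, -1], ![0, 0, -1, 0, 0, 1, 0], ![0, -1, 0, 0, 0, 0, 1]]]

/-- the dual vectors, order 12 -/
def U7_12 : Fin 1 → Fin 7 → ℤ := ![![0, 0, 0, 1, 0, 0, 0]]

theorem ok7_12 : TabOK (hd K7_12) c12 V7_12 U7_12 := by decide +kernel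

/-- the partial products -/
def K7_14 : List (Fin 7 × Mat 7) := [
    (6, ![![0, 0, 1, 0, 0, 0, 0], ![0, 0, 0, 0, 1, 0, 0], ![1, 1, 1, 2, 1, 0, 0], ![0, 0, 0, 0, 0, 1, 1], ![-1, -1, -1, -1, -1, -1, -1], ![0, 1, 0, 0, 0, 0, 0], ![1, 0, 1, 1, 1, 1, 0]]),
    (0, ![![0, 0, 1, 0, 0, 0, 0], ![0, 0, 0, 0, 1, 0, 0], ![1, 1, 1, 2, 1, 0, 0], ![0, 0, 0, 0, 0, 1, 0], ![-1, -1, -1, -1, -1, -1, 0], ![0, 1, 0, 0, 0, 0, 0], ![1, 0, 1, 1, 1, 1, 1]]),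
    (2, ![![1, 0, 1, 0, 0, 0, 0], ![0, 0, 0, 0, 1, 0, 0], ![0, 1, 1, 2, 1, 0, 0], ![0, 0, 0, 0, 0, 1, 0], ![0, -1, -1, -1, -1, -1, 0], ![0, 1, 0, 0, 0, 0, 0], ![0, 0, 1, 1, 1, 1, 1]]),
    (3, ![![1, 0, 0, 0, 0, 0, 0], ![0, 0, 0, 0, 1, 0, 0], ![0, 1, 1, 2, 1, 0, 0], ![0, 0, 0, 0, 0, 1, 0], ![0, -1, 0, -1, -1, -1, 0], ![0, 1, 0, 0, 0, 0, 0], ![0, 0, 0, 1, 1, 1, 1]]),
    (4, ![![1, 0, 0, 0, 0, 0, 0], ![0, 0, 0, 1, 1, 0, 0], ![0, 1, 1, 1, 1, 0, 0], ![0, 0, 0, 0, 0, 1, 0], ![0, -1, 0, -1, -1, -1, 0], ![0, 1, 0, 1, 0, 0, 0], ![0, 0, 0, 0, 1, 1, 1]]),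
    (1, ![![1, 0, 0, 0, 0, 0, 0], ![0, 0, 0, 1, 0, 0, 0], ![0, 1, 1, 1, 0, 0, 0], ![0, 0, 0, 0, 1, 1, 0], ![0, -1, 0, -1, -1, -1, 0], ![0, 1, 0, 1, 1, 0, 0], ![0, 0, 0, 0, 0, 1, 1]]),
    (5, ![![1, 0, 0, 0, 0, 0, 0], ![0, 1, 0, 1, 0, 0, 0], ![0, 0, 1, 1, 0, 0, 0], ![0, 0, 0, 0, 1, 1, 0], ![0, 0, 0, -1, -1, -1, 0], ![0, 0, 0, 1, 1, 0, 0], ![0, 0, 0, 0, 0, 1, 1]]),
    (3, ![![1, 0, 0, 0, 0, 0, 0], ![0, 1, 0, 1, 0, 0, 0], ![0, 0, 1, 1, 0, 0, 0], ![0, 0, 0, 0, 1, 0, 0], ![0, 0, 0, -1, -1, 0, 0], ![0, 0, 0, 1, 1, 1, 0], ![0, 0, 0, 0, 0, 0, 1]]),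
    (4, ![![1, 0, 0, 0, 0, 0, 0], ![0, 1, 0, 0, 0, 0, 0], ![0, 0, 1, 0, 0, 0, 0], ![0, 0, 0, 1, 1, 0, 0], ![0, 0, 0, 0, -1, 0, 0], ![0, 0, 0, 0, 1, 1, 0], ![0, 0, 0, 0, 0, 0, 1]])]

theorem chK7_14 : ChainOK A7 K7_14 := by decide +kernel

/-- the eigenfunctionals, order 14 -/
def V7_14 : Fin 1 → Fin (5 + 1) → Fin 7 → ℤ := ![![![-1, 0, 0, 1, 0, 0, 0], ![0, 0, -1, 0, 0, 1, 0], ![-1, 1, 0, 0, 0, 1, -1], ![0, 1, -1, -1, 1, 0, 0], ![-1, 0, 0, 0, 1, 0, -1], ![0, 0, -1, 0, 0, 0, 0]]]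

/-- the dual vectors, order 14 -/
def U7_14 : Fin 1 → Fin 7 → ℤ := ![![-1, 0, 0, 0, 0, 0, 1]]

theorem ok7_14 : TabOK (hd K7_14) c14 V7_14 U7_14 := by decide +kernel

/-- the eigenfunctionals, order 18 -/
def V7_18 : Fin 1 → Fin (5 + 1) → Fin 7 → ℤ := ![![![-1, 0, 1, 0, 0, 0, 0], ![0, 0, -1, 1, 0, 0, 0], ![0, -1, 0, 0, 1, 0, 0], ![0, 0, -1, 0, 0, 1, 0], ![0, -1, 0, 0, 0, 0, 1], ![-1, 0, 0, 0, 0, 0, 0]]]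

/-- the dual vectors, order 18 -/
def U7_18 : Fin 1 → Fin 7 → ℤ := ![![0, 0, 1, 1, 0, 1, 0]]

theorem ok7_18 : TabOK (hd C7) c18 V7_18 U7_18 := by decide +kernel

/-- the eigenfunctionals, order 9 -/
def V7_9 : Fin 1 → Fin (5 + 1) → Fin 7 → ℤ := ![![![0, 0, -1, 1, 0, 0, 0], ![-1, 0, 0, 0, 0, 1, 0], ![-1, -1, 0, 0, 1, 0, 0], ![0, -1, -1, 1, 0, 0, 1], ![0, 0, -1, 0, 0, 1, 0], ![-1, 0, 0, 0, 0, 0, 0]]]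

/-- the dual vectors, order 9 -/
def U7_9 : Fin 1 → Fin 7 → ℤ := ![![0, 0, 0, 1, 0, 0, -1]]

theorem ok7_9 : TabOK (M72) c9 V7_9 U7_9 := by decide +kernel

/-- the general form for `E₇` -/
theorem kill7 {w : CoxeterMatrix.E₇.Group} {Th : Mat 7}
    (hw : ∀ j, rep CoxeterMatrix.E₇.toCoxeterSystem Cfsg.Agent.H493.PGE7.hp.isCartan w (sr j) = Th j)
    {f r : ℕ} (hr : 0 < r) {c : Fin (f + 1) → ℤ} {V : Fin r → Fin (f + 1) → Fin 7 → ℤ} {U : Fin r → Fin 7 → ℤ}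
    (h : TabOK Th c V U) {F : Type} [Field F] [Fintype F] {e : ℕ} (he3 : 3 ≤ e)
    (hpd : ∀ {s : ℕ} [Fact s.Prime], orderOf (Fintype.card F : ZMod s) = e →
      ((s ^ padicValNat s (Fintype.card F ^ e - 1) : ℕ) : ℤ) ∣ pv c ((Fintype.card F : ℕ) : ℤ))
    (hnm : nm e [2, 6, 8, 10, 12, 14, 18] = r) (hchk : Chk e [2, 6, 8, 10, 12, 14, 18]) :
    Kill ↥(chevE7.group F) (Fintype.card F) e e :=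
  kill_tab Cfsg.Agent.H493.PGE7.hp Cfsg.Agent.H493.PGE7.finW TorusChar.invC_E7 (by norm_num) (by norm_num) deg_E7
    (by decide) hw hr h he3 hpd hnm hchk

variable {F : Type} [Field F] [Fintype F]

theorem rep7 {L : List (Fin 7 × Mat 7)} (h : ChainOK A7 L) (j : Fin 7) :
    rep CoxeterMatrix.E₇.toCoxeterSystem Cfsg.Agent.H493.PGE7.hp.isCartan
      (CoxeterMatrix.E₇.toCoxeterSystem.wordProd (L.map Prod.fst)) (sr j) = hd L j :=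
  WData.chain_rep Cfsg.Agent.H493.PGE7.hp _ Cfsg.Agent.H493.PGE7.hA h j

theorem kill7_3 : Kill ↥(chevE7.group F) (Fintype.card F) 3 3 := by
  have := Cfsg.Agent.H493.PGE7.finW
  have h2 := rows_mul Cfsg.Agent.H493.PGE7.hp _ cox7 cox7 p72
  have h3 := rows_mul Cfsg.Agent.H493.PGE7.hp _ cox7 h2 p73
  have h6 := rows_mul Cfsg.Agent.H493.PGE7.hp _ h3 h3 p76
  exact kill7 h6 (by norm_num) ok73 (by norm_num) (fun ho => pd3 Fintype.card_pos ho) (by decide) (by decide)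

theorem kill7_4 : Kill ↥(chevE7.group F) (Fintype.card F) 4 4 := by
  exact kill7 (rep7 ch7) (by norm_num) ok74 (by norm_num) (fun ho => pd4 Fintype.card_pos ho) (by decide) (by decide)

theorem kill7_5 : Kill ↥(chevE7.group F) (Fintype.card F) 5 5 := by
  exact kill7 (rep7 chK7_5) (by norm_num) ok7_5 (by norm_num) (fun ho => pd5 Fintype.card_pos ho) (by decide) (by decide)

theorem kill7_6 : Kill ↥(chevE7.group F) (Fintype.card F) 6 6 := by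
  have := Cfsg.Agent.H493.PGE7.finW
  have h2 := rows_mul Cfsg.Agent.H493.PGE7.hp _ cox7 cox7 p72
  have h3 := rows_mul Cfsg.Agent.H493.PGE7.hp _ cox7 h2 p73
  exact kill7 h3 (by norm_num) ok76 (by norm_num) (fun ho => pd6 Fintype.card_pos ho) (by decide) (by decide)

theorem kill7_7 : Kill ↥(chevE7.group F) (Fintype.card F) 7 7 := by
  exact kill7 (rep7 chK7_7) (by norm_num) ok7_7 (by norm_num) (fun ho => pd7 Fintype.card_pos ho) (by decide) (by decide)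

theorem kill7_8 : Kill ↥(chevE7.group F) (Fintype.card F) 8 8 := by
  exact kill7 (rep7 chK7_8) (by norm_num) ok7_8 (by norm_num) (fun ho => pd8 Fintype.card_pos ho) (by decide) (by decide)

theorem kill7_9 : Kill ↥(chevE7.group F) (Fintype.card F) 9 9 := by
  have := Cfsg.Agent.H493.PGE7.finW
  have h2 := rows_mul Cfsg.Agent.H493.PGE7.hp _ cox7 cox7 p72
  exact kill7 h2 (by norm_num) ok7_9 (by norm_num) (fun ho => pd9 Fintype.card_pos ho) (by decide) (by decide)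

theorem kill7_10 : Kill ↥(chevE7.group F) (Fintype.card F) 10 10 := by
  exact kill7 (rep7 chK7_10) (by norm_num) ok7_10 (by norm_num) (fun ho => pd10 Fintype.card_pos ho) (by decide) (by decide)

theorem kill7_12 : Kill ↥(chevE7.group F) (Fintype.card F) 12 12 := by
  exact kill7 (rep7 chK7_12) (by norm_num) ok7_12 (by norm_num) (fun ho => pd12 Fintype.card_pos ho) (by decide) (by decide)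

theorem kill7_14 : Kill ↥(chevE7.group F) (Fintype.card F) 14 14 := by
  exact kill7 (rep7 chK7_14) (by norm_num) ok7_14 (by norm_num) (fun ho => pd14 Fintype.card_pos ho) (by decide) (by decide)

theorem kill7_18 : Kill ↥(chevE7.group F) (Fintype.card F) 18 18 := by
  exact kill7 cox7 (by norm_num) ok7_18 (by norm_num) (fun ho => pd18 Fintype.card_pos ho) (by decide) (by decide)

end Cfsg.Agent.H897.PQ
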